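import Mathlib.LinearAlgebra.ExteriorPower.Basic
import Groth.Prelude.Def_DeRham

/-!
Exterior powers along a semilinear bijection.
-/

set_option autoImplicit false

universe u

open exteriorPower

namespace Groth.Agent.DR3

variable {A B M N : Type u} [CommRing A] [CommRing B] [AddCommGroup M] [Module A M] [AddCommGroup N] [Module B N]

theorem exists_extPow_map (σ : A →+* B) (ℓ : M →ₛₗ[σ] N) (p : ℕ) :
    ∃ ψ : ↥(⋀[A]^p M) →+ ↥(⋀[B]^p N),
      ∀ (a : A) (v : Fin p → M), ψ (a • ιMulti A p v) = σ a • ιMulti B p (fun i => ℓ (v i)) := by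
  let : Module A ↥(⋀[B]^p N) := Module.compHom _ σ
  let f : M [⋀^Fin p]→ₗ[A] ↥(⋀[B]^p N) :=
    { toFun := fun v => ιMulti B p (fun i => ℓ (v i))
      map_update_add' := fun {d} v i x y => by
        obtain rfl : d = instDecidableEqFin p := Subsingleton.elim _ _
        have hu : ∀ z, (fun k => ℓ (Function.update v i z k)) = Function.update (fun k => ℓ (v k)) i (ℓ z) :=
          fun z => funext fun k => Function.apply_update (fun _ => ℓ) v i z k
        rw [hu, hu, hu, map_add, AlternatingMap.map_update_add]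
      map_update_smul' := fun {d} v i c x => by
        obtain rfl : d = instDecidableEqFin p := Subsingleton.elim _ _
        have hu : ∀ z, (fun k => ℓ (Function.update v i z k)) = Function.update (fun k => ℓ (v k)) i (ℓ z) :=
          fun z => funext fun k => Function.apply_update (fun _ => ℓ) v i z k
        rw [hu, hu, map_smulₛₗ, AlternatingMap.map_update_smul]
        rfl
      map_eq_zero_of_eq' := fun v i j h hij => (ιMulti B p).map_eq_zero_of_eq _ (congrArg ℓ h) hij }
  refine ⟨(alternatingMapLinearEquiv f).toAddMonoidHom, fun a v => ?_⟩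
  show alternatingMapLinearEquiv f (a • ιMulti A p v) = _
  rw [map_smul, alternatingMapLinearEquiv_apply_ιMulti]
  rfl

theorem induction_iMulti {p : ℕ} {P : ↥(⋀[A]^p M) → Prop} (h0 : P 0) (hadd : ∀ x y, P x → P y → P (x + y))
    (hgen : ∀ (a : A) v, P (a • ιMulti A p v)) (x : ↥(⋀[A]^p M)) : P x := by
  suffices ∀ a : A, P (a • x) by simpa using this 1
  have hx : x ∈ Submodule.span A (Set.range (ιMulti A p)) := by
    rw [exteriorPower.ιMulti_span]; trivial
  induction hx using Submodule.span_induction with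
  | mem z hz =>
    obtain ⟨v, rfl⟩ := hz
    exact fun a => hgen a v
  | zero => intro a; rwa [smul_zero]
  | add z w _ _ hz hw => intro a; rw [smul_add]; exact hadd _ _ (hz a) (hw a)
  | smul c z _ hz => intro a; rw [smul_smul]; exact hz _

/-- The exterior power of a semilinear bijection. -/
theorem exists_extPow_addEquiv (σ : A →+* B) (hσ : Function.Bijective σ) (ℓ : M →ₛₗ[σ] N)
    (hℓ : Function.Bijective ℓ) (p : ℕ) :
    ∃ ψ : ↥(⋀[A]^p M) ≃+ ↥(⋀[B]^p N),
      ∀ (a : A) (v : Fin p → M), ψ (a • ιMulti A p v) = σ a • ιMulti B p (fun i => ℓ (v i)) := by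
  let e := RingEquiv.ofBijective σ hσ
  let m := Equiv.ofBijective ℓ hℓ
  have hm : ∀ y, ℓ (m.symm y) = y := fun y => m.apply_symm_apply y
  have hm' : ∀ x, m.symm (ℓ x) = x := fun x => m.symm_apply_apply x
  have he : ∀ b, σ (e.symm b) = b := fun b => e.apply_symm_apply b
  have he' : ∀ a, e.symm (σ a) = a := fun a => e.symm_apply_apply a
  let ℓ' : N →ₛₗ[e.symm.toRingHom] M :=
    { toFun := m.symm
      map_add' := fun x y => hℓ.1 ((hm _).trans (by rw [map_add ℓ, hm, hm]))
      map_smul' := fun b x => hℓ.1 (by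
        show ℓ (m.symm (b • x)) = ℓ (e.symm b • m.symm x)
        rw [ℓ.map_smulₛₗ, hm, hm, he]) }
  obtain ⟨ψ, hψ⟩ := exists_extPow_map σ ℓ p
  obtain ⟨ψ', hψ'⟩ := exists_extPow_map e.symm.toRingHom ℓ' p
  refine ⟨{ toFun := ψ, invFun := ψ', left_inv := ?_, right_inv := ?_, map_add' := map_add ψ }, hψ⟩
  · refine induction_iMulti (P := fun x => ψ' (ψ x) = x) (by simp) (fun x y hx hy => by simp only [map_add, hx, hy])
      fun a v => ?_
    rw [hψ, hψ']
    show e.symm (σ a) • ιMulti A p (fun i => m.symm (ℓ (v i))) = _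
    simp only [he', hm']
  · refine induction_iMulti (P := fun x => ψ (ψ' x) = x) (by simp) (fun x y hx hy => by simp only [map_add, hx, hy])
      fun b v => ?_
    rw [hψ', hψ]
    show σ (e.symm b) • ιMulti B p (fun i => ℓ (m.symm (v i))) = _
    simp only [he, hm]

end Groth.Agent.DR3
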