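import Groth.Agent.Var76.OmegaSmooth
import Groth.Agent.Var76.SmoothFibre
import Groth.Agent.E4O.DimField
import Groth.Agent.QC70.Sections
import Groth.Agent.Om3.ExtPowPull
import Groth.Prelude.Def_DeRham2
import Mathlib.RingTheory.Smooth.StandardSmoothCotangent
import Mathlib.LinearAlgebra.ExteriorPower.Basis
import Mathlib.Topology.KrullDimension

/-!
The de Rham complex of a smooth scheme of dimension at most `n` over a field stops in degree `n`.
-/

set_option autoImplicit false
set_option linter.style.haveILetI false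
set_option backward.isDefEq.respectTransparency.types false

universe u

open CategoryTheory CategoryTheory.Limits AlgebraicGeometry TopologicalSpace Opposite

noncomputable section

namespace Groth.Agent.DR3

/-- The relative dimension of a nonzero standard smooth algebra over a field is at most its dimension. -/
theorem le_ringKrullDim_of_standardSmooth (κ C : Type u) [Field κ] [CommRing C] [Algebra κ C] [Nontrivial C] (d : ℕ)
    [Algebra.IsStandardSmoothOfRelativeDimension d κ C] : (d : WithBot ℕ∞) ≤ ringKrullDim C := by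
  have : Algebra.IsStandardSmooth κ C := Algebra.IsStandardSmoothOfRelativeDimension.isStandardSmooth d
  obtain ⟨p, hp⟩ := Ideal.nonempty_minimalPrimes (I := (⊥ : Ideal C)) bot_ne_top
  have : p.IsPrime := hp.1.1
  refine le_trans (le_of_eq ?_) (ringKrullDim_quotient_le p)
  rw [E4O.ringKrullDim_eq_trdeg κ (C ⧸ p),
    Var76.SmoothFibre.trdeg_quotient_minimal κ C d p fun q hq hqp =>
      le_antisymm hqp (hp.2 ⟨hq, bot_le⟩ hqp), Cardinal.toNat_natCast]

theorem subsingleton_exteriorPower {R M : Type u} [CommRing R] [AddCommGroup M] [Module R M] {m : ℕ}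
    (b : Module.Basis (Fin m) R M) {p : ℕ} (h : m < p) : Subsingleton (⋀[R]^p M) := by
  have : IsEmpty (Set.powersetCard (Fin m) p) := ⟨fun s => by
    have h1 := Finset.card_le_univ (s : Finset (Fin m))
    rw [Fintype.card_fin, Set.powersetCard.card_eq s] at h1
    omega⟩
  exact (b.exteriorPower p).repr.toEquiv.subsingleton

theorem isField_of_bijective {R k : Type u} [CommRing R] [Field k] (e : k ≃+* R) : IsField R :=
  e.symm.toMulEquiv.isField (Field.toIsField k)

/-- The terms above the dimension vanish. -/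
theorem isZero_term {k : Type u} [Field k] {X : Scheme.{u}} (f : X ⟶ Spec (CommRingCat.of k)) [QuasiSeparated f]
    [Smooth f] (n : ℕ) (hn : topologicalKrullDim ↥X ≤ n) (D : DeRhamSh.OmegaCx f) (p : ℕ) (hp : n < p) :
    IsZero (Coh.toAb (D.term p)) := by
  have hloc : ∀ (O : X.Opens) (x : X), x ∈ O → ∃ W ≤ O, x ∈ W ∧ Subsingleton Γ(D.term p, W) := by
    intro O x hxO
    obtain ⟨V, hV, W₀, hW₀, hxW₀, e₀, hstd⟩ := Smooth.exists_isStandardSmooth f x
    obtain ⟨g, hgO, hxg⟩ := hW₀.exists_basicOpen_le ⟨x, hxO⟩ hxW₀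
    obtain rfl : V = ⊤ := by
      refine top_le_iff.1 fun y _ => ?_
      rw [Subsingleton.elim (α := PrimeSpectrum k) y (f x)]
      exact e₀ hxW₀
    let W := X.basicOpen g
    have hW : IsAffineOpen W := hW₀.basicOpen g
    have hxW : x ∈ W := hxg
    have e : W ≤ f ⁻¹ᵁ ⊤ := le_top
    letI := (f.appLE ⊤ W e).hom.toAlgebra
    let R := Γ(Spec (CommRingCat.of k), ⊤)
    have hR : IsField R := isField_of_bijective (Scheme.ΓSpecIso (CommRingCat.of k)).symm.commRingCatIsoToRingEquiv
    letI : Field R := hR.toField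
    haveI : Nontrivial Γ(X, W) := by
      have : Nonempty W := ⟨⟨x, hxW⟩⟩
      infer_instance
    have hs : Algebra.IsStandardSmooth R Γ(X, W) := by
      haveI := hW₀.isLocalization_basicOpen g
      have h2 : (algebraMap Γ(X, W₀) Γ(X, W)).IsStandardSmooth :=
        RingHom.isStandardSmooth_algebraMap.2 (Algebra.IsStandardSmoothOfRelativeDimension.isStandardSmooth 0
          (H := Algebra.IsStandardSmoothOfRelativeDimension.localization_away g))
      have h3 := h2.comp hstd
      show (f.appLE ⊤ W e).hom.IsStandardSmooth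
      convert h3 using 1
      show _ = (f.appLE ⊤ W₀ e₀ ≫ X.presheaf.map (homOfLE (X.basicOpen_le g)).op).hom
      rw [Scheme.Hom.appLE_map]
    obtain ⟨ι, σ, _, _, ⟨P⟩⟩ := hs
    let m := P.dimension
    haveI : Algebra.IsStandardSmoothOfRelativeDimension m R Γ(X, W) :=
      P.isStandardSmoothOfRelativeDimension rfl
    have hm : m ≤ n := by
      have h1 : (m : WithBot ℕ∞) ≤ ringKrullDim Γ(X, W) := le_ringKrullDim_of_standardSmooth R _ m
      rw [← PrimeSpectrum.topologicalKrullDim_eq_ringKrullDim] at h1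
      have h2 := (h1.trans (hW.fromSpec.isOpenEmbedding.isInducing.topologicalKrullDim_le)).trans hn
      exact_mod_cast h2
    have : Algebra.IsStandardSmooth R Γ(X, W) :=
      Algebra.IsStandardSmoothOfRelativeDimension.isStandardSmooth m
    have hr : Module.finrank Γ(X, W) Ω[Γ(X, W)⁄R] = m :=
      Module.finrank_eq_of_rank_eq (Algebra.IsStandardSmoothOfRelativeDimension.rank_kaehlerDifferential m)
    obtain ⟨j⟩ := Var76.OmegaSmooth.exists_equiv f hW (isAffineOpen_top _) e
    haveI := subsingleton_exteriorPower ((Module.finBasisOfFinrankEq _ _ hr).map j) (hm.trans_lt hp)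
    exact ⟨W, hgO, hxW, (D.loc p ⟨W, hW⟩).toEquiv.subsingleton⟩
  have hz : IsZero (D.term p) := (IsZero.iff_id_eq_zero _).2 <| Scheme.Modules.hom_ext _ _ fun U => by
    ext s
    refine QC70.section_ext _ _ _ fun x hx => ?_
    obtain ⟨W, hWU, hxW, hW⟩ := hloc U x hx
    exact ⟨W, hWU, hxW, hW.elim _ _⟩
  exact (SheafOfModules.toSheaf X.ringCatSheaf).map_isZero hz

/-- The terms are quasi-coherent. -/
theorem isQCoh_term {S X : Scheme.{u}} (f : X ⟶ S) [QuasiSeparated f] (D : DeRhamSh.OmegaCx f) (p : ℕ) :
    Coh.IsQCoh (D.term p) :=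
  haveI : (Omega.sheaf f).IsQuasicoherent := Omega57.isQuasicoherent_omega f
  Om3.isQuasicoherent_of_isExtPow (D.isExtPow p)

end Groth.Agent.DR3
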