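import Groth.Agent.DR3.Sections
import Groth.Agent.DR3.ExtSemi
import Groth.Agent.DR3.TopDegree
import Groth.Agent.DR29.Basic
import Groth.Agent.Omega57.Diag
import Groth.Agent.Coh69.AffVanish
import Mathlib.Algebra.Homology.ShortComplex.ModuleCat

/-!
De Rham cohomology of an affine scheme is the cohomology of the de Rham complex of the algebra.
-/

set_option autoImplicit false
set_option linter.style.haveILetI false
set_option backward.isDefEq.respectTransparency false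
set_option backward.isDefEq.respectTransparency.types false
universe u v

open CategoryTheory CategoryTheory.Limits AlgebraicGeometry Opposite TopologicalSpace exteriorPower

noncomputable section

namespace Groth.Agent.DR3

section Homology

variable {R : Type v} {A M : Type u} [CommRing R] [CommRing A] [Algebra R A]
  [AddCommGroup M] [Module A M] [Module R M] [IsScalarTower R A M]
  {δ : Derivation R A M} {d : ∀ p : ℕ, ↥(⋀[A]^p M) →ₗ[R] ↥(⋀[A]^(p + 1) M)}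

/-- The cohomology of the de Rham complex as closed forms modulo exact ones. -/
theorem exists_toH (hd : DeRham.IsDiff δ d) : ∀ n : ℕ, ∃ π : ↥(DeRham.cocycles d n) →+ ↑(DeRham.H hd n),
    Function.Surjective π ∧ ∀ z, π z = 0 ↔ z.1 ∈ DeRham.coboundaries d n := by
  have key : ∀ (n i : ℕ), (ComplexShape.up ℕ).prev n = i →
      ∃ π : ↥(LinearMap.ker ((DeRham.cx hd).d n (n + 1)).hom) →+ ↑(DeRham.H hd n),
      Function.Surjective π ∧ ∀ z, π z = 0 ↔ ∃ b, ((DeRham.cx hd).d i n).hom b = z.1 := by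
    intro n i hi
    let S := (DeRham.cx hd).sc' i n (n + 1)
    let e : S.moduleCatLeftHomologyData.H ≅ DeRham.H hd n :=
      S.moduleCatHomologyIso.symm ≪≫ ((DeRham.cx hd).homologyIsoSc' i n (n + 1) hi (CochainComplex.next ℕ n)).symm
    let π := (S.moduleCatLeftHomologyData.π ≫ e.hom).hom.toAddMonoidHom
    refine ⟨π, fun x => ?_, fun z => ?_⟩
    · obtain ⟨y, hy⟩ := Submodule.Quotient.mk_surjective _ (e.toLinearEquiv.symm x)
      exact ⟨y, (congrArg e.toLinearEquiv hy).trans (e.toLinearEquiv.apply_symm_apply x)⟩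
    · show e.toLinearEquiv (Submodule.Quotient.mk z) = 0 ↔ _
      rw [LinearEquiv.map_eq_zero_iff, Submodule.Quotient.mk_eq_zero, LinearMap.mem_range]
      exact exists_congr fun b => Subtype.ext_iff
  have hdd : ∀ n, ((DeRham.cx hd).d n (n + 1)).hom = d n := fun n =>
    congrArg ModuleCat.Hom.hom ((show (DeRham.cx hd).d n (n + 1) = CochainComplex.of.d (fun p => ModuleCat.of R ↥(⋀[A]^p M)) (fun p => ModuleCat.ofHom (d p)) n (n + 1) from rfl).trans (CochainComplex.of_d (fun p => ModuleCat.of R ↥(⋀[A]^p M)) (fun p => ModuleCat.ofHom (d p)) n))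
  intro n
  cases n with
  | zero =>
    obtain ⟨π, hπ, hπ'⟩ := key 0 0 CochainComplex.prev_nat_zero
    have hE : DeRham.cocycles d 0 = LinearMap.ker ((DeRham.cx hd).d 0 1).hom := congrArg LinearMap.ker (hdd 0).symm
    refine ⟨π.comp (LinearEquiv.ofEq _ _ hE).toAddMonoidHom, hπ.comp (LinearEquiv.ofEq _ _ hE).surjective, fun z =>
      (hπ' _).trans ?_⟩
    rw [(DeRham.cx hd).shape 0 0 (by simp)]
    exact ⟨fun ⟨b, hb⟩ => hb ▸ rfl, fun h => ⟨0, ((Submodule.mem_bot R).1 h).symm⟩⟩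
  | succ p =>
    obtain ⟨π, hπ, hπ'⟩ := key (p + 1) p (CochainComplex.prev_nat_succ p)
    have hE : DeRham.cocycles d (p + 1) = LinearMap.ker ((DeRham.cx hd).d (p + 1) (p + 1 + 1)).hom :=
      congrArg LinearMap.ker (hdd (p + 1)).symm
    refine ⟨π.comp (LinearEquiv.ofEq _ _ hE).toAddMonoidHom, hπ.comp (LinearEquiv.ofEq _ _ hE).surjective, fun z =>
      (hπ' _).trans ?_⟩
    rw [hdd p]
    exact Iff.rfl

end Homology

section Affine

variable (R A : Type u) [CommRing R] [CommRing A] [Algebra R A]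

/-- Global sections of the de Rham complex of an affine scheme are the de Rham complex of the algebra. -/
theorem exists_sectEquiv (D : DeRhamSh.OmegaCx (Spec.map (CommRingCat.ofHom (algebraMap R A))))
    (d : ∀ p : ℕ, ↥(⋀[A]^p (Ω[A⁄R])) →ₗ[R] ↥(⋀[A]^(p + 1) (Ω[A⁄R])))
    (hd : DeRham.IsDiff (KaehlerDifferential.D R A) d) :
    ∃ s : ∀ p : ℕ, ↥(⋀[A]^p (Ω[A⁄R])) ≃+ (D.KZ.X (p : ℤ)).obj.obj (op ⊤),
      ∀ (p : ℕ) x, ((D.KZ.d (p : ℤ) (p + 1 : ℕ)).hom.app (op ⊤)).hom (s p x) = s (p + 1) (d p x) := by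
  let f := Spec.map (CommRingCat.ofHom (algebraMap R A))
  let X := Spec (CommRingCat.of A)
  let U₀ : X.affineOpens := ⟨⊤, isAffineOpen_top X⟩
  have hσ : Function.Bijective (OmAff.toΓ A) :=
    ConcreteCategory.bijective_of_isIso (Scheme.ΓSpecIso (CommRingCat.of A)).inv
  choose ψ hψ using fun p => exists_extPow_addEquiv (OmAff.toΓ A) hσ (OmAff.toSpec R A)
    (Omega57.bijective_toSpec (R := R) (A := A)) p
  let η : ∀ p : ℕ, D.KZ.X (p : ℤ) ≅ D.K.X p := fun p =>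
    D.K.extendXIso ComplexShape.embeddingUpNat (ComplexShape.embeddingUpNat_f p)
  let χ : ∀ p : ℕ, ↥(⋀[Γ(X, U₀.1)]^p Γ(Omega.sheaf f, U₀.1)) ≃+ (D.KZ.X (p : ℤ)).obj.obj (op ⊤) := fun p =>
    (D.loc p U₀).symm.toAddEquiv.trans
      ((((sheafToPresheaf _ _).mapIso ((D.iso p).symm ≪≫ (η p).symm)).app (op ⊤)).addCommGroupIsoToAddEquiv)
  let s : ∀ p : ℕ, ↥(⋀[A]^p (Ω[A⁄R])) ≃+ (D.KZ.X (p : ℤ)).obj.obj (op ⊤) := fun p => (ψ p).trans (χ p)
  have hcomm : ∀ (p : ℕ) x, ((D.KZ.d (p : ℤ) (p + 1 : ℕ)).hom.app (op ⊤)).hom (s p x) = s (p + 1) (d p x) := by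
    intro p x
    refine DR29.induction_gen (DR29.span_kaehler R A)
      (P := fun x => ((D.KZ.d (p : ℤ) (p + 1 : ℕ)).hom.app (op ⊤)).hom (s p x) = s (p + 1) (d p x))
      (by rw [map_zero (s p), map_zero (d p), map_zero (s (p + 1))]; exact map_zero _)
      (fun x y hx hy => by
        rw [map_add (s p), map_add (d p), map_add (s (p + 1))]
        exact (map_add _ _ _).trans (congrArg₂ (· + ·) hx hy)) (fun b₀ b => ?_) x
    rw [hd.1 p b₀ b]
    have h1 : ψ p (DeRham.gen (KaehlerDifferential.D R A) p b₀ b) =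
        OmAff.toΓ A b₀ • ιMulti _ p (fun i => (OmegaSh.dOmega f).app U₀.1 (OmAff.toΓ A (b i))) := by
      rw [DeRham.gen, hψ]
      congr 2
      funext i
      exact OmAff.toSpec_D R A (b i)
    have h2 : ψ (p + 1) (ιMulti A (p + 1) (Fin.cons (KaehlerDifferential.D R A b₀)
          fun i => KaehlerDifferential.D R A (b i))) =
        ιMulti _ (p + 1) (Fin.cons ((OmegaSh.dOmega f).app U₀.1 (OmAff.toΓ A b₀))
          fun i => (OmegaSh.dOmega f).app U₀.1 (OmAff.toΓ A (b i))) := by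
      refine ((congrArg (ψ (p + 1)) (one_smul A _).symm).trans (hψ (p + 1) 1 _)).trans ?_
      rw [map_one, one_smul]
      congr 1
      funext i
      cases i using Fin.cases with
      | zero => exact OmAff.toSpec_D R A b₀
      | succ i => exact OmAff.toSpec_D R A (b i)
    have hr := D.rule p U₀ (OmAff.toΓ A b₀) fun i => OmAff.toΓ A (b i)
    have hdd : (η p).inv ≫ D.KZ.d (p : ℤ) (p + 1 : ℕ) = D.K.d p (p + 1) ≫ (η (p + 1)).inv := by
      rw [D.K.extend_d_eq ComplexShape.embeddingUpNat (ComplexShape.embeddingUpNat_f p)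
        (ComplexShape.embeddingUpNat_f (p + 1))]
      exact Iso.inv_hom_id_assoc _ _
    show ((D.KZ.d (p : ℤ) (p + 1 : ℕ)).hom.app (op ⊤)).hom
        (((η p).inv.hom.app (op ⊤)).hom (((D.iso p).inv.hom.app (op ⊤)).hom ((D.loc p U₀).symm (ψ p _)))) =
      ((η (p + 1)).inv.hom.app (op ⊤)).hom (((D.iso (p + 1)).inv.hom.app (op ⊤)).hom
        ((D.loc (p + 1) U₀).symm (ψ (p + 1) _)))
    rw [h1, h2]
    exact (congrArg (fun φ : D.K.X p ⟶ D.KZ.X ((p + 1 : ℕ) : ℤ) => (φ.hom.app (op ⊤)).hom _) hdd).trans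
      (congrArg _ hr)
  exact ⟨s, hcomm⟩

/-- Acyclicity of the terms. -/
theorem subsingleton_E_KZ (D : DeRhamSh.OmegaCx (Spec.map (CommRingCat.ofHom (algebraMap R A)))) :
    ∀ (i : ℤ) (q : ℕ), Subsingleton (TopCoh49.E (D.KZ.X i) (q + 1) ⊤) := by
  let f := Spec.map (CommRingCat.ofHom (algebraMap R A))
  let X := Spec (CommRingCat.of A)
  let η : ∀ p : ℕ, D.KZ.X (p : ℤ) ≅ D.K.X p := fun p =>
    D.K.extendXIso ComplexShape.embeddingUpNat (ComplexShape.embeddingUpNat_f p)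
  intro i
  by_cases hi : 0 ≤ i
  · obtain ⟨p, rfl⟩ := Int.eq_ofNat_of_zero_le hi
    intro q
    haveI : (D.term p).IsQuasicoherent := isQCoh_term f D p
    have h := Coh69.qcoh_subsingleton_HE (D.term p) (isAffineOpen_top X) q
    haveI : Subsingleton (Abelian.Ext.{u} (TopCoh49.freeU ⊤) (Coh.toAb (D.term p)) (q + 1)) := h
    refine subsingleton_of_forall_eq 0 fun x => ?_
    rw [← x.comp_mk₀_id, ← ((η p).trans (D.iso p)).hom_inv_id, ← Abelian.Ext.mk₀_comp_mk₀,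
      ← Abelian.Ext.comp_assoc x _ _ (add_zero (q + 1)) (zero_add 0) (by omega),
      Subsingleton.elim (x.comp (Abelian.Ext.mk₀ ((η p).trans (D.iso p)).hom) (add_zero (q + 1))) 0,
      Abelian.Ext.zero_comp]
  · intro q
    exact (CTot49.acClass (X := X.toTopCat) ⊤).of_isZero _
      (D.K.isZero_extend_X ComplexShape.embeddingUpNat i fun p hp => by
        have : (p : ℤ) = i := hp
        omega) q

theorem glue {M G₀ G₁ G₂ H H' : Type u} [AddCommGroup M] [AddCommGroup G₀] [AddCommGroup G₁] [AddCommGroup G₂]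
    [AddCommGroup H] [AddCommGroup H'] (d₀ : G₀ →+ G₁) (d₁ : G₁ →+ G₂) (s : M ≃+ G₁) (Z : AddSubgroup M)
    (hZ : ∀ x, x ∈ Z ↔ d₁ (s x) = 0) (Φ : d₁.ker →+ H) (hΦ : Function.Surjective Φ)
    (hΦ' : ∀ z, Φ z = 0 ↔ ∃ b, d₀ b = z.1) (π : Z →+ H') (hπ : Function.Surjective π)
    (hπ' : ∀ z, π z = 0 ↔ ∃ b, d₀ b = s z.1) : Nonempty (H ≃+ H') := by
  let j : Z →+ d₁.ker := AddMonoidHom.mk' (fun z => ⟨s z.1, (hZ z.1).1 z.2⟩) fun z z' => Subtype.ext (map_add s z.1 z'.1)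
  refine ⟨TopCoh49.equivOfKerEq (Φ.comp j) π ?_ hπ (AddSubgroup.ext fun z => ?_)⟩
  · intro x
    obtain ⟨⟨c, hc⟩, rfl⟩ := hΦ x
    obtain ⟨y, rfl⟩ := s.surjective c
    exact ⟨⟨y, (hZ y).2 hc⟩, rfl⟩
  · rw [AddMonoidHom.mem_ker, AddMonoidHom.mem_ker, hπ']
    exact hΦ' (j z)

theorem nonempty_hdR_addEquiv (D : DeRhamSh.OmegaCx (Spec.map (CommRingCat.ofHom (algebraMap R A))))
    [HasDerivedCategory.{u} (Sheaf (Opens.grothendieckTopology ↥(Spec (CommRingCat.of A))) AddCommGrpCat.{u})]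
    (d : ∀ p : ℕ, ↥(⋀[A]^p (Ω[A⁄R])) →ₗ[R] ↥(⋀[A]^(p + 1) (Ω[A⁄R])))
    (hd : DeRham.IsDiff (KaehlerDifferential.D R A) d) (n : ℕ) :
    Nonempty (DeRhamSh.HdR D (n : ℤ) ≃+ ↑(DeRham.H hd n)) := by
  let X := Spec (CommRingCat.of A)
  obtain ⟨s, hcomm⟩ := exists_sectEquiv R A D d hd
  have hneg : ∀ i : ℤ, i < 0 → IsZero (D.KZ.X i) := fun i hi =>
    D.K.isZero_extend_X ComplexShape.embeddingUpNat i fun p hp => by
      have : (p : ℤ) = i := hp
      omega
  letI : HasDerivedCategory.{u} (CohTop.Ab X.toTopCat) := ‹_›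
  obtain ⟨Φ, hΦ, hΦ'⟩ := exists_classHom (X := X.toTopCat) D.KZ 0 hneg ⊤ (subsingleton_E_KZ R A D) (n : ℤ)
  obtain ⟨π, hπ, hπ'⟩ := exists_toH hd n
  have hz : ∀ x, x ∈ (DeRham.cocycles d n).toAddSubgroup ↔
      ((D.KZ.d (n : ℤ) ((n : ℤ) + 1)).hom.app (op ⊤)).hom (s n x) = 0 :=
    fun x => (((s (n + 1)).map_eq_zero_iff (x := d n x)).symm.trans
      (iff_of_eq (congrArg (· = 0) (hcomm n x).symm)) :)
  refine glue ((D.KZ.d ((n : ℤ) - 1) (n : ℤ)).hom.app (op ⊤)).hom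
    ((D.KZ.d (n : ℤ) ((n : ℤ) + 1)).hom.app (op ⊤)).hom (s n) _ hz Φ hΦ hΦ' π hπ fun z => (hπ' z).trans ?_
  clear hπ' hΦ' hπ hΦ π Φ hz
  obtain ⟨z, hz'⟩ := z
  show z ∈ DeRham.coboundaries d n ↔ ∃ b, ((D.KZ.d ((n : ℤ) - 1) (n : ℤ)).hom.app (op ⊤)).hom b = s n z
  clear hz'
  cases n with
  | zero =>
    constructor
    · intro h
      obtain rfl := (Submodule.mem_bot R).1 h
      exact ⟨0, (map_zero _).trans (map_zero (s 0)).symm⟩
    · rintro ⟨b, hb⟩
      rw [(hneg (((0 : ℕ) : ℤ) - 1) (by omega)).eq_of_src (D.KZ.d _ ((0 : ℕ) : ℤ)) 0] at hb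
      exact (Submodule.mem_bot R).2 ((s 0).map_eq_zero_iff.1 hb.symm)
  | succ m =>
    rw [show (((m + 1 : ℕ) : ℤ) - 1) = (m : ℤ) by omega]
    constructor
    · rintro ⟨y, rfl⟩
      exact ⟨s m y, hcomm m y⟩
    · rintro ⟨b, hb⟩
      obtain ⟨y, rfl⟩ := (s m).surjective b
      exact ⟨y, (s (m + 1)).injective ((hcomm m y).symm.trans hb)⟩

end Affine

end Groth.Agent.DR3
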