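import Groth.Agent.DR3.AffineCmp
import Groth.Agent.Om3.Poincare

/-!
Algebraic de Rham cohomology of affine space in characteristic zero.
-/

set_option autoImplicit false
set_option linter.style.haveILetI false
set_option backward.isDefEq.respectTransparency false
set_option backward.isDefEq.respectTransparency.types false
universe u

open CategoryTheory CategoryTheory.Limits AlgebraicGeometry Opposite TopologicalSpace exteriorPower

noncomputable section

namespace Groth.Agent.DR3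

/-- The hypercohomology of a complex in nonnegative degrees of acyclic sheaves vanishes in negative degrees. -/
theorem subsingleton_hdu_neg {X : TopCat.{u}} [HasDerivedCategory.{u} (CohTop.Ab X)]
    (K : CochainComplex (CohTop.Ab X) ℤ) (ha : ∀ i : ℤ, i < 0 → IsZero (K.X i)) (V : Opens X)
    (h : ∀ (i : ℤ) (q : ℕ), Subsingleton (TopCoh49.E (K.X i) (q + 1) V)) (n : ℤ) (hn : n < 0) :
    Subsingleton (CohCx.HDU (DerivedCategory.Q.obj K) n V) := by
  obtain ⟨Φ, hΦ, hΦ'⟩ := exists_classHom K 0 ha V h n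
  have h0 : ∀ s, Φ s = 0 := fun s => (hΦ' s).2 ⟨0, by
    rw [map_zero]
    exact ((AddCommGrpCat.subsingleton_of_isZero ((CTot49.secV V).map_isZero (ha n hn))).elim _ _)⟩
  refine ⟨fun x y => ?_⟩
  obtain ⟨a, rfl⟩ := hΦ x
  obtain ⟨b, rfl⟩ := hΦ y
  rw [h0, h0]

variable (k : Type u) [Field k] [CharZero k] (n : ℕ)

local notation "P" => MvPolynomial (Fin n) k

/-- The algebraic Poincaré lemma. -/
theorem poincare : ∃ (d : ∀ p : ℕ, ↥(⋀[P]^p (Ω[P⁄k])) →ₗ[k] ↥(⋀[P]^(p + 1) (Ω[P⁄k])))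
    (_ : DeRham.IsDiff (KaehlerDifferential.D k P) d),
    (∀ p, DeRham.cocycles d (p + 1) ≤ DeRham.coboundaries d (p + 1)) ∧
      Nonempty (↥(DeRham.cocycles d 0) ≃+ k) := by
  obtain ⟨D, ⟨h0, hdeg, hder, hdd⟩, -⟩ := Om3.existsUnique_diff (R := k) (A := P)
  have hd := Om3.isDiff_restr D hdeg h0 hder hdd
  have htop : ∀ (q : ℕ) (x : ↥(⋀[P]^q (Ω[P⁄k]))),
      x ∈ DR29.subForms (KaehlerDifferential.D k P) (Om3.firstVars (k := k) n n) q := fun q x =>
    Om3.firstVars_top (k := k) (n := n) ▸ DR29.subForms_top (DR29.span_kaehler k P) q x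
  refine ⟨Om3.restr D hdeg, hd, fun p ω hω => ?_, ?_⟩
  · obtain ⟨g, hg, -, hgd⟩ := Om3.step hd (p + 1) n le_rfl ω (htop _ _) hω
    have hg0 : g = 0 := by
      refine (AddSubgroup.closure_le (⊥ : AddSubgroup _)).2 ?_ hg
      rintro _ ⟨b₀, -, b, hb, rfl⟩
      obtain ⟨c, hc⟩ := Om3.firstVars_zero (hb 0)
      show DeRham.gen (KaehlerDifferential.D k P) (p + 1) b₀ b = 0
      rw [DeRham.gen, AlternatingMap.map_coord_zero _ (i := 0), smul_zero]
      rw [hc, ← MvPolynomial.algebraMap_eq, Derivation.map_algebraMap]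
    rwa [hg0, sub_zero] at hgd
  · let e₀ := exteriorPower.zeroEquiv P (Ω[P⁄k])
    have he : ∀ (a : P) (b : Fin 0 → P), e₀ (DeRham.gen (KaehlerDifferential.D k P) 0 a b) = a := fun a b => by
      rw [DeRham.gen, map_smul, exteriorPower.zeroEquiv_ιMulti, smul_eq_mul, mul_one]
    have hmem : ∀ c : k, e₀.symm (MvPolynomial.C c) ∈ DeRham.cocycles (Om3.restr D hdeg) 0 := fun c => by
      have h1 : e₀.symm (MvPolynomial.C c) = DeRham.gen (KaehlerDifferential.D k P) 0 (MvPolynomial.C c) 0 :=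
        e₀.symm_apply_eq.2 (he _ _).symm
      refine LinearMap.mem_ker.2 ?_
      rw [h1, hd.1]
      refine AlternatingMap.map_coord_zero _ (i := 0) ?_
      rw [← MvPolynomial.algebraMap_eq]
      exact Derivation.map_algebraMap _ _
    let φ : k →+ ↥(DeRham.cocycles (Om3.restr D hdeg) 0) :=
      AddMonoidHom.mk' (fun c => ⟨_, hmem c⟩) fun c c' => Subtype.ext (by
        show e₀.symm (MvPolynomial.C (c + c')) = e₀.symm (MvPolynomial.C c) + e₀.symm (MvPolynomial.C c')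
        rw [map_add, map_add])
    refine ⟨(AddEquiv.ofBijective φ ⟨fun c c' h => MvPolynomial.C_injective _ _ (e₀.symm.injective (congrArg Subtype.val h)), ?_⟩).symm⟩
    rintro ⟨ω, hω⟩
    obtain ⟨g, hg, -, hgd⟩ := Om3.step hd 0 n le_rfl ω (htop _ _) hω
    have h2 : ∃ c : k, e₀.symm (MvPolynomial.C c) = g := by
      clear hgd
      induction hg using AddSubgroup.closure_induction with
      | mem x hx =>
        obtain ⟨b₀, h₀, b, -, rfl⟩ := hx
        obtain ⟨c, rfl⟩ := Om3.firstVars_zero h₀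
        exact ⟨c, e₀.symm_apply_eq.2 (he _ _).symm⟩
      | zero => exact ⟨0, by rw [map_zero, map_zero]⟩
      | add x y _ _ hx hy =>
        obtain ⟨c, rfl⟩ := hx; obtain ⟨c', rfl⟩ := hy
        exact ⟨c + c', by rw [map_add, map_add]⟩
      | neg x _ hx =>
        obtain ⟨c, rfl⟩ := hx
        exact ⟨-c, by rw [map_neg, map_neg]⟩
    obtain ⟨c, hc⟩ := h2
    exact ⟨c, Subtype.ext (hc.trans (sub_eq_zero.1 hgd).symm)⟩

theorem hdR_affineSpace (D : DeRhamSh.OmegaCx (Spec.map (CommRingCat.ofHom (algebraMap k P))))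
    [HasDerivedCategory.{u} (Sheaf (Opens.grothendieckTopology ↥(Spec (CommRingCat.of P))) AddCommGrpCat.{u})] :
    (∀ i : ℤ, i ≠ 0 → Subsingleton (DeRhamSh.HdR D i)) ∧ Nonempty (DeRhamSh.HdR D 0 ≃+ k) := by
  obtain ⟨d, hd, hex, ⟨e⟩⟩ := poincare k n
  refine ⟨fun i hi => ?_, ?_⟩
  · rcases lt_or_gt_of_ne hi with hi | hi
    · letI : HasDerivedCategory.{u} (CohTop.Ab (Spec (CommRingCat.of P)).toTopCat) := ‹_›
      exact subsingleton_hdu_neg (X := (Spec (CommRingCat.of P)).toTopCat) D.KZ (fun j hj =>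
        D.K.isZero_extend_X ComplexShape.embeddingUpNat j fun p hp => by
          have : (p : ℤ) = j := hp
          omega) ⊤ (subsingleton_E_KZ k P D) i hi
    · obtain ⟨p, rfl⟩ : ∃ p : ℕ, i = ((p + 1 : ℕ) : ℤ) := ⟨(i - 1).toNat, by omega⟩
      obtain ⟨E⟩ := nonempty_hdR_addEquiv k P D d hd (p + 1)
      obtain ⟨π, hπ, hπ'⟩ := exists_toH hd (p + 1)
      refine E.toEquiv.subsingleton_congr.2 ⟨fun x y => ?_⟩
      obtain ⟨a, rfl⟩ := hπ x
      obtain ⟨b, rfl⟩ := hπ y
      rw [(hπ' a).2 (hex p a.2), (hπ' b).2 (hex p b.2)]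
  · obtain ⟨E⟩ := nonempty_hdR_addEquiv k P D d hd 0
    obtain ⟨π, hπ, hπ'⟩ := exists_toH hd 0
    have hinj : Function.Injective π := (injective_iff_map_eq_zero π).2 fun z hz =>
      Subtype.ext ((Submodule.mem_bot k).1 ((hπ' z).1 hz))
    exact ⟨(E.trans (AddEquiv.ofBijective π ⟨hinj, hπ⟩).symm).trans e⟩

end Groth.Agent.DR3
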