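import Groth.Agent.DCX42.Trunc
import Groth.Agent.Coh69.Sections
import Mathlib.Algebra.Homology.DerivedCategory.ShortExact
import Mathlib.Algebra.Homology.DerivedCategory.Ext.Basic
import Groth.Prelude.Def_DeRham2

/-!
Vanishing of hypercohomology of a bounded complex from the vanishing of the cohomology of its terms.
-/

set_option autoImplicit false
set_option backward.isDefEq.respectTransparency false

noncomputable section

universe w w' v u

open CategoryTheory Limits Pretriangulated DerivedCategory AlgebraicGeometry TopologicalSpace Opposite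

namespace Groth.Agent.DR3

section

variable {A : Type u} [Category.{v} A] [Abelian A] [HasDerivedCategory.{w} A] (T : A)

/-- Maps to a shifted single complex. -/
theorem subsingleton_hom_single (M : A) (a i : ℤ)
    (h : Subsingleton ((singleFunctor A 0).obj T ⟶ ((singleFunctor A 0).obj M)⟦i - a⟧)) :
    Subsingleton ((singleFunctor A 0).obj T ⟶ ((singleFunctor A a).obj M)⟦i⟧) := by
  let e : ((singleFunctor A a).obj M)⟦i⟧ ≅ ((singleFunctor A 0).obj M)⟦i - a⟧ :=
    ((singleFunctors A).shiftIso i (a - i) a (by omega)).app M ≪≫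
      (((singleFunctors A).shiftIso (i - a) (a - i) 0 (by omega)).app M).symm
  exact (Iso.homCongr (Iso.refl _) e).symm.subsingleton_congr.1 h

theorem subsingleton_hom_of_isZero (Y : DerivedCategory A) (hY : IsZero Y) :
    Subsingleton ((singleFunctor A 0).obj T ⟶ Y) :=
  ⟨fun _ _ => hY.eq_of_tgt _ _⟩

/-- Dévissage along the stupid filtration. -/
theorem subsingleton_hom_Q_shift : ∀ (n : ℕ) (a : ℤ) (K : CochainComplex A ℤ), K.IsStrictlyGE a →
    K.IsStrictlyLE (a + n) → ∀ i : ℤ,
    (∀ p : ℤ, a ≤ p → p ≤ a + n →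
      Subsingleton ((singleFunctor A 0).obj T ⟶ ((singleFunctor A 0).obj (K.X p))⟦i - p⟧)) →
    Subsingleton ((singleFunctor A 0).obj T ⟶ (Q.obj K)⟦i⟧)
  | 0, a, K, hGE, hLE, i, h => by
    haveI := hGE
    haveI : K.IsStrictlyLE a := by simpa using hLE
    obtain ⟨M, ⟨e⟩⟩ := CochainComplex.exists_iso_single K a
    have eM : K.X a ≅ M := (HomologicalComplex.eval A (ComplexShape.up ℤ) a).mapIso e ≪≫ HomologicalComplex.singleObjXSelf (ComplexShape.up ℤ) a M
    have h1 := subsingleton_hom_single T (K.X a) a i (h a le_rfl (by simp))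
    have e2 : (Q.obj K)⟦i⟧ ≅ ((singleFunctor A a).obj (K.X a))⟦i⟧ :=
      (shiftFunctor _ i).mapIso (Q.mapIso e ≪≫ ((singleFunctorIsoCompQ A a).app M).symm ≪≫
        (singleFunctor A a).mapIso eM.symm)
    exact (Iso.homCongr (Iso.refl _) e2).subsingleton_congr.2 h1
  | n + 1, a, K, hGE, hLE, i, h => by
    haveI := hGE
    haveI := hLE
    let S := DCX42.σGE K (a + 1)
    have hS : S.IsStrictlyGE (a + 1) :=
      (CochainComplex.isStrictlyGE_iff _ _).2 fun j hj => DCX42.isZero_σX K (a + 1) hj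
    have hS' : S.IsStrictlyLE (a + 1 + (n : ℤ)) :=
      (CochainComplex.isStrictlyLE_iff _ _).2 fun j hj => by
        show IsZero (DCX42.σX K (a + 1) j)
        rw [DCX42.σX_of_le K (a + 1) (by omega)]
        exact CochainComplex.isZero_of_isStrictlyLE K (a + (n + 1 : ℕ)) j (by omega)
    haveI : ∀ j, Mono ((DCX42.σIncl K (a + 1)).f j) := fun j => by
      by_cases hj : a + 1 ≤ j
      · haveI := DCX42.isIso_σIncl_f K (a + 1) hj; infer_instance
      · exact ⟨fun u v _ => (DCX42.isZero_σX K (a + 1) (show j < a + 1 by omega)).eq_of_tgt _ _⟩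
    haveI : Mono (DCX42.σIncl K (a + 1)) := HomologicalComplex.mono_of_mono_f _ inferInstance
    let SC := ShortComplex.mk (DCX42.σIncl K (a + 1)) (cokernel.π (DCX42.σIncl K (a + 1))) (cokernel.condition _)
    have hSC : SC.ShortExact :=
      { exact := ShortComplex.exact_of_g_is_cokernel _ (cokernelIsCokernel _)
        mono_f := inferInstanceAs (Mono (DCX42.σIncl K (a + 1)))
        epi_g := inferInstanceAs (Epi (cokernel.π _)) }
    let C := cokernel (DCX42.σIncl K (a + 1))
    have hC : ∀ j, IsZero ((HomologicalComplex.eval A _ j).obj S) → Nonempty (K.X j ≅ C.X j) := fun j hj => by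
      have hSj := hSC.map_of_exact (HomologicalComplex.eval A (ComplexShape.up ℤ) j)
      haveI : IsIso ((HomologicalComplex.eval A (ComplexShape.up ℤ) j).map SC.g) :=
        (hSj.isIso_g_iff).2 hj
      exact ⟨@asIso _ _ _ _ ((HomologicalComplex.eval A (ComplexShape.up ℤ) j).map SC.g) inferInstance⟩
    have hCz : ∀ j, (a + 1 ≤ j ∨ j < a) → IsZero (C.X j) := by
      intro j hj
      rcases hj with hj | hj
      · have hSj := hSC.map_of_exact (HomologicalComplex.eval A (ComplexShape.up ℤ) j)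
        haveI := DCX42.isIso_σIncl_f K (a + 1) hj
        exact (hSj.isIso_f_iff).1 (show IsIso ((DCX42.σIncl K (a + 1)).f j) from DCX42.isIso_σIncl_f K (a + 1) hj)
      · obtain ⟨e⟩ := hC j (DCX42.isZero_σX K (a + 1) (by omega))
        exact (CochainComplex.isZero_of_isStrictlyGE K a j hj).of_iso e.symm
    haveI : C.IsStrictlyGE a := (CochainComplex.isStrictlyGE_iff _ _).2 fun j hj => hCz j (Or.inr hj)
    haveI hCLE : C.IsStrictlyLE (a + ((0 : ℕ) : ℤ)) :=
      (CochainComplex.isStrictlyLE_iff _ _).2 fun j hj => hCz j (Or.inl (by omega))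
    have h1 : Subsingleton ((singleFunctor A 0).obj T ⟶ (Q.obj S)⟦i⟧) :=
      subsingleton_hom_Q_shift n (a + 1) S hS hS' i fun p hp hp' => by
        show Subsingleton ((singleFunctor A 0).obj T ⟶ ((singleFunctor A 0).obj (DCX42.σX K (a + 1) p))⟦i - p⟧)
        rw [DCX42.σX_of_le K (a + 1) hp]
        exact h p (by omega) (by omega)
    have h2 : Subsingleton ((singleFunctor A 0).obj T ⟶ (Q.obj C)⟦i⟧) := by
      refine subsingleton_hom_Q_shift 0 a C inferInstance hCLE i fun p hp hp' => ?_
      obtain rfl : p = a := by omega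
      obtain ⟨e⟩ := hC p (DCX42.isZero_σX K (p + 1) (by omega))
      exact (Iso.homCongr (Iso.refl _) ((shiftFunctor _ (i - p)).mapIso ((singleFunctor A 0).mapIso e))).subsingleton_congr.1
        (h p le_rfl (by omega))
    have hT := Triangle.shift_distinguished _ (triangleOfSES_distinguished hSC) i
    refine ⟨fun x y => sub_eq_zero.1 ?_⟩
    obtain ⟨z, hz⟩ := Triangle.coyoneda_exact₂ _ hT (x - y) (h2.elim _ _)
    rw [hz, h1.elim z 0]
    exact zero_comp

end

section

variable {C : Type u} [Category.{v} C] [Abelian C] [HasDerivedCategory.{w} C] [HasExt.{w'} C]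

theorem subsingleton_hom_shift_of_ext (T M : C) (q : ℕ) (h : Subsingleton (Abelian.Ext.{w'} T M q)) :
    Subsingleton ((singleFunctor C 0).obj T ⟶ ((singleFunctor C 0).obj M)⟦(q : ℤ)⟧) :=
  (Abelian.Ext.homEquiv (X := T) (Y := M) (n := q)).subsingleton_congr.1 h

end

/-- Vanishing of the hypercohomology of a de Rham complex from that of its terms. -/
theorem subsingleton_HdR {X S : Scheme.{u}} {f : X ⟶ S} {Ω' : X.Modules} {δ : OmegaSh.Der f Ω'}
    (D : DeRhamSh.Cx f Ω' δ)
    [HasDerivedCategory.{u} (Sheaf (Opens.grothendieckTopology ↥X) AddCommGrpCat.{u})]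
    (n : ℕ) (hn : ∀ p : ℕ, n < p → IsZero (Coh.toAb (D.term p))) (i : ℤ)
    (h : ∀ p : ℕ, p ≤ n → ∃ q : ℕ, (p : ℤ) + q = i ∧ Subsingleton (Coh.HH X (D.term p) q)) :
    Subsingleton (DeRhamSh.HdR D i) := by
  have hX : ∀ p : ℕ, D.KZ.X (p : ℤ) ≅ Coh.toAb (D.term p) := fun p =>
    D.K.extendXIso ComplexShape.embeddingUpNat (ComplexShape.embeddingUpNat_f p) ≪≫ D.iso p
  have hGE : D.KZ.IsStrictlyGE 0 := (CochainComplex.isStrictlyGE_iff _ _).2 fun j hj =>
    D.K.isZero_extend_X ComplexShape.embeddingUpNat j fun p hp => by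
      have : (p : ℤ) = j := hp
      omega
  have hLE : D.KZ.IsStrictlyLE (0 + (n : ℤ)) := (CochainComplex.isStrictlyLE_iff _ _).2 fun j hj => by
    obtain ⟨p, rfl⟩ := Int.eq_ofNat_of_zero_le (show 0 ≤ j by omega)
    exact (hn p (by omega)).of_iso (hX p)
  refine subsingleton_hom_Q_shift _ n 0 D.KZ hGE hLE i fun p hp hp' => ?_
  obtain ⟨p, rfl⟩ := Int.eq_ofNat_of_zero_le hp
  obtain ⟨q, hq, hH⟩ := h p (by omega)
  rw [show i - (p : ℤ) = q by omega]
  refine (Iso.homCongr (Iso.refl _) ((shiftFunctor _ (q : ℤ)).mapIso ((singleFunctor _ 0).mapIso (hX p)))).subsingleton_congr.2 ?_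
  exact subsingleton_hom_shift_of_ext _ _ q
    ((Coh69.hTerminalEquiv isTerminalTop (Coh.toAb (D.term p)) q).toEquiv.subsingleton_congr.1 hH)

end Groth.Agent.DR3
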