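import Groth.Agent.DR3.Bounded
import Groth.Prelude.Def_KLinDR

/-!
Finiteness of hypercohomology of a bounded complex with linear differentials from that of its terms.
-/

set_option autoImplicit false
set_option backward.isDefEq.respectTransparency false

noncomputable section

universe w w' v u r

open CategoryTheory Limits Pretriangulated DerivedCategory Abelian

namespace Groth.Agent.DR3

variable {A : Type u} [Category.{v} A] [Abelian A] [HasDerivedCategory.{w} A] [HasExt.{w'} A] (T : A)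
  {R : Type r} [CommRing R]

/-- All cohomology of `M` is finite over `R` acting through `σ`. -/
def FinExt (M : A) (σ : R → (M ⟶ M)) : Prop :=
  ∀ q : ℕ, ∃ (N : Type w') (_ : AddCommGroup N) (_ : Module R N) (_ : Module.Finite R N) (ξ : N →+ Ext.{w'} T M q),
    Function.Surjective ξ ∧ ∀ (r : R) (x : N), ξ (r • x) = (ξ x).comp (Ext.mk₀ (σ r)) (add_zero q)

theorem FinExt.of_iso {M M' : A} {σ : R → (M ⟶ M)} {σ' : R → (M' ⟶ M')} (h : FinExt T M σ) (g : M ≅ M')
    (hg : ∀ r, σ r ≫ g.hom = g.hom ≫ σ' r) : FinExt T M' σ' := fun q => by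
  obtain ⟨N, _, _, _, ξ, hξ, hsmul⟩ := h q
  refine ⟨N, _, _, ‹_›, ((Ext.mk₀ g.hom).postcomp T (add_zero q)).comp ξ, fun y => ?_, fun r x => ?_⟩
  · obtain ⟨x, hx⟩ := hξ (y.comp (Ext.mk₀ g.inv) (add_zero q))
    refine ⟨x, ?_⟩
    show (ξ x).comp (Ext.mk₀ g.hom) (add_zero q) = y
    rw [hx, Ext.comp_assoc_of_second_deg_zero, Ext.mk₀_comp_mk₀, Iso.inv_hom_id, Ext.comp_mk₀_id]
  · show (ξ (r • x)).comp (Ext.mk₀ g.hom) (add_zero q) =
      ((ξ x).comp (Ext.mk₀ g.hom) (add_zero q)).comp (Ext.mk₀ (σ' r)) (add_zero q)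
    rw [hsmul, Ext.comp_assoc_of_second_deg_zero, Ext.comp_assoc_of_second_deg_zero, Ext.mk₀_comp_mk₀,
      Ext.mk₀_comp_mk₀, hg]

theorem subsingleton_hom_shift_of_neg (M : A) (m : ℤ) (hm : m < 0) :
    Subsingleton ((singleFunctor A 0).obj T ⟶ ((singleFunctor A 0).obj M)⟦m⟧) := by
  let t : Triangulated.TStructure (DerivedCategory A) := TStructure.t
  have h₁ : t.IsLE ((singleFunctor A 0).obj T) 0 := inferInstance
  have h₂ : t.IsGE ((singleFunctor A 0).obj M) 0 := inferInstance
  exact ⟨fun x y => sub_eq_zero.1 (t.zero_of_isLE_of_isGE (x - y) 0 (-m) (by omega) h₁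
    (t.isGE_shift ((singleFunctor A 0).obj M) 0 m (-m) (by omega)))⟩

/-- A complex concentrated in one degree. -/
theorem finite_single (a : ℤ) (K : CochainComplex A ℤ) [K.IsStrictlyGE a] [K.IsStrictlyLE a] (ρ : R →+* End K)
    (i : ℤ) (h : FinExt T (K.X a) fun r => (ρ r : K ⟶ K).f a) : Module.Finite R (KLinDR.HTρ T K ρ i) := by
  obtain ⟨M, ⟨e⟩⟩ := CochainComplex.exists_iso_single K a
  let s := (HomologicalComplex.singleObjXSelf (ComplexShape.up ℤ) a M)
  let eM : K.X a ≅ M := (HomologicalComplex.eval A (ComplexShape.up ℤ) a).mapIso e ≪≫ s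
  let ψ : R → (M ⟶ M) := fun r => eM.inv ≫ (ρ r : K ⟶ K).f a ≫ eM.hom
  have hψ : ∀ r, (ρ r : K ⟶ K) ≫ e.hom = e.hom ≫ (CochainComplex.singleFunctor A a).map (ψ r) := fun r => by
    apply HomologicalComplex.to_single_hom_ext
    rw [← cancel_mono s.hom]
    simp only [HomologicalComplex.comp_f, Category.assoc]
    rw [show ((CochainComplex.singleFunctor A a).map (ψ r)).f a = s.hom ≫ ψ r ≫ s.inv from
      HomologicalComplex.single_map_f_self (c := ComplexShape.up ℤ) a (ψ r)]
    simp only [Category.assoc, Iso.inv_hom_id, Category.comp_id]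
    show _ = e.hom.f a ≫ s.hom ≫ eM.inv ≫ (ρ r : K ⟶ K).f a ≫ eM.hom
    rw [← Category.assoc (e.hom.f a) s.hom, show e.hom.f a ≫ s.hom = eM.hom from rfl, Iso.hom_inv_id_assoc]
  have key : ∀ m : ℤ, m = i - a →
      ∃ F : KLinDR.HTρ T K ρ i ≃ ((singleFunctor A 0).obj T ⟶ ((singleFunctor A 0).obj M)⟦m⟧),
        (∀ x y, F (x + y) = F x + F y) ∧
        ∀ r x, F (r • x) = F x ≫ (shiftFunctor _ m).map ((singleFunctor A 0).map (ψ r)) := by
    intro m hm
    let Ω : singleFunctor A a ⋙ shiftFunctor _ i ≅ singleFunctor A 0 ⋙ shiftFunctor _ m :=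
      (singleFunctors A).shiftIso i (a - i) a (by omega) ≪≫
        ((singleFunctors A).shiftIso m (a - i) 0 (by omega)).symm
    let g : Q.obj K ⟶ (singleFunctor A a).obj M := Q.map e.hom ≫ ((singleFunctorIsoCompQ A a).app M).inv
    have hg : IsIso g := inferInstance
    refine ⟨((shiftFunctor _ i).mapIso (asIso g) ≪≫ Ω.app M).homToEquiv,
      fun x y => Preadditive.add_comp _ _ _ _ _ _, fun r x => ?_⟩
    show (KLinDR.HTρ.toHT x ≫ (shiftFunctor _ i).map (Q.map (ρ r))) ≫ ((shiftFunctor _ i).map g ≫ Ω.hom.app M) =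
      (KLinDR.HTρ.toHT x ≫ ((shiftFunctor _ i).map g ≫ Ω.hom.app M)) ≫
        (shiftFunctor _ m).map ((singleFunctor A 0).map (ψ r))
    have h1 : ((singleFunctorIsoCompQ A a).inv.app M) ≫ (singleFunctor A a).map (ψ r) =
        Q.map ((CochainComplex.singleFunctor A a).map (ψ r)) ≫ (singleFunctorIsoCompQ A a).inv.app M :=
      ((singleFunctorIsoCompQ A a).inv.naturality (ψ r)).symm
    have h0 : Q.map (ρ r : K ⟶ K) ≫ g = g ≫ (singleFunctor A a).map (ψ r) := by
      show _ ≫ Q.map e.hom ≫ _ = (Q.map e.hom ≫ _) ≫ _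
      rw [← Category.assoc (Q.map _), ← Q.map_comp]
      refine (congrArg (fun z => Q.map z ≫ _) (hψ r)).trans ?_
      refine (congrArg (· ≫ _) (Q.map_comp _ _)).trans ?_
      rw [Category.assoc, Category.assoc]
      exact congrArg (Q.map e.hom ≫ ·) h1.symm
    have h2 : (shiftFunctor _ i).map ((singleFunctor A a).map (ψ r)) ≫ Ω.hom.app M =
        Ω.hom.app M ≫ (shiftFunctor _ m).map ((singleFunctor A 0).map (ψ r)) := Ω.hom.naturality (ψ r)
    simp only [Category.assoc]
    rw [← Functor.map_comp_assoc, h0, Functor.map_comp_assoc, h2]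
  by_cases hi : a ≤ i
  · obtain ⟨q, hq⟩ := Int.eq_ofNat_of_zero_le (show 0 ≤ i - a by omega)
    obtain ⟨N, _, _, _, ξ, hξ, hsmul⟩ := h.of_iso T eM (σ' := ψ) (fun r => by simp [ψ]) q
    obtain ⟨F, hFadd, hF⟩ := key (q : ℤ) hq.symm
    refine Module.Finite.of_surjective
      ({ toFun := fun x => F.symm (Ext.homEquiv (ξ x))
         map_add' := fun x y => F.injective (by
           rw [hFadd, F.apply_symm_apply, F.apply_symm_apply, F.apply_symm_apply, map_add]
           exact Ext.add_hom _ _)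
         map_smul' := fun r x => F.injective (by
           rw [RingHom.id_apply, hF, F.apply_symm_apply, F.apply_symm_apply, hsmul]
           show (Ext.comp _ _ _).hom = _
           rw [Ext.comp_hom, Ext.mk₀_hom, ShiftedHom.comp_mk₀]) } : N →ₗ[R] KLinDR.HTρ T K ρ i) ?_
    intro y
    obtain ⟨x, hx⟩ := hξ (Ext.homEquiv.symm (F y))
    exact ⟨x, F.injective ((F.apply_symm_apply _).trans (by rw [hx, Equiv.apply_symm_apply]))⟩
  · obtain ⟨F, -, -⟩ := key (i - a) rfl
    haveI := subsingleton_hom_shift_of_neg T M (i - a) (by omega)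
    haveI : Subsingleton (KLinDR.HTρ T K ρ i) := F.subsingleton
    exact ⟨⟨∅, Subsingleton.elim _ _⟩⟩

/-- Dévissage along the stupid filtration. -/
theorem finite_HTρ [IsNoetherianRing R] : ∀ (n : ℕ) (a : ℤ) (K : CochainComplex A ℤ), K.IsStrictlyGE a →
    K.IsStrictlyLE (a + n) → ∀ (ρ : R →+* End K) (i : ℤ),
    (∀ p : ℤ, a ≤ p → p ≤ a + n → FinExt T (K.X p) fun r => (ρ r : K ⟶ K).f p) →
    Module.Finite R (KLinDR.HTρ T K ρ i)
  | 0, a, K, hGE, hLE, ρ, i, h => by
    haveI := hGE
    haveI : K.IsStrictlyLE a := by simpa using hLE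
    exact finite_single T a K ρ i (h a le_rfl (by simp))
  | n + 1, a, K, hGE, hLE, ρ, i, h => by
    haveI := hGE
    haveI := hLE
    let S := DCX42.σGE K (a + 1)
    let ι : S ⟶ K := DCX42.σIncl K (a + 1)
    have hS : S.IsStrictlyGE (a + 1) :=
      (CochainComplex.isStrictlyGE_iff _ _).2 fun j hj => DCX42.isZero_σX K (a + 1) hj
    have hS' : S.IsStrictlyLE (a + 1 + (n : ℤ)) :=
      (CochainComplex.isStrictlyLE_iff _ _).2 fun j hj => by
        show IsZero (DCX42.σX K (a + 1) j)
        rw [DCX42.σX_of_le K (a + 1) (by omega)]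
        exact CochainComplex.isZero_of_isStrictlyLE K (a + (n + 1 : ℕ)) j (by omega)
    haveI hmf : ∀ j, Mono (ι.f j) := fun j => by
      by_cases hj : a + 1 ≤ j
      · haveI := DCX42.isIso_σIncl_f K (a + 1) hj; exact inferInstanceAs (Mono ((DCX42.σIncl K (a + 1)).f j))
      · exact ⟨fun u v _ => (DCX42.isZero_σX K (a + 1) (show j < a + 1 by omega)).eq_of_tgt _ _⟩
    haveI : Mono ι := HomologicalComplex.mono_of_mono_f _ inferInstance
    have hlift : ∀ φ : K ⟶ K, ∃ φ' : S ⟶ S, φ' ≫ ι = ι ≫ φ := fun φ => by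
      have hj : ∀ j, ∃ g : S.X j ⟶ S.X j, g ≫ ι.f j = ι.f j ≫ φ.f j := fun j => by
        by_cases hj : a + 1 ≤ j
        · haveI : IsIso (ι.f j) := DCX42.isIso_σIncl_f K (a + 1) hj
          exact ⟨ι.f j ≫ φ.f j ≫ inv (ι.f j), by simp⟩
        · exact ⟨0, (DCX42.isZero_σX K (a + 1) (show j < a + 1 by omega)).eq_of_src _ _⟩
      choose g hg using hj
      have hcomm : ∀ j k : ℤ, g j ≫ S.d j k = S.d j k ≫ g k := fun j k => by
        rw [← cancel_mono (ι.f k), Category.assoc, Category.assoc, hg k, ← ι.comm j k, reassoc_of% (hg j),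
          φ.comm j k, ← ι.comm_assoc]
      exact ⟨{ f := g, comm' := fun j k _ => hcomm j k }, HomologicalComplex.hom_ext _ _ hg⟩
    choose lft hlft using hlift
    let ρS : R →+* End S :=
      { toFun := fun r => lft (ρ r)
        map_one' := (cancel_mono ι).1 (by
          show lft (ρ 1) ≫ ι = 𝟙 S ≫ ι
          rw [hlft, map_one, Category.id_comp]
          exact Category.comp_id _)
        map_mul' := fun r r' => (cancel_mono ι).1 (by
          show lft (ρ (r * r')) ≫ ι = (lft (ρ r') ≫ lft (ρ r)) ≫ ι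
          rw [hlft, Category.assoc, hlft, reassoc_of% (hlft (ρ r')), map_mul, End.mul_def])
        map_zero' := (cancel_mono ι).1 (by
          show lft (ρ 0) ≫ ι = (0 : S ⟶ S) ≫ ι
          rw [hlft, map_zero, zero_comp]
          exact comp_zero)
        map_add' := fun r r' => (cancel_mono ι).1 (by
          show lft (ρ (r + r')) ≫ ι = (lft (ρ r) + lft (ρ r')) ≫ ι
          rw [hlft, Preadditive.add_comp, hlft, hlft, map_add]
          exact Preadditive.comp_add _ _ _ _ _ _) }
    have hcS : KLinDR.Commutes ρS ρ ι := fun r => hlft (ρ r)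
    let SC := ShortComplex.mk ι (cokernel.π ι) (cokernel.condition _)
    have hSC : SC.ShortExact :=
      { exact := ShortComplex.exact_of_g_is_cokernel _ (cokernelIsCokernel _)
        mono_f := inferInstanceAs (Mono ι)
        epi_g := inferInstanceAs (Epi (cokernel.π _)) }
    let C := cokernel ι
    let π : K ⟶ C := cokernel.π ι
    have hw : ∀ r, ι ≫ (ρ r : K ⟶ K) = (ρS r : S ⟶ S) ≫ ι := fun r => (hcS r).symm
    let ρC : R →+* End C :=
      { toFun := fun r => cokernel.map ι ι (ρS r) (ρ r) (hw r)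
        map_one' := coequalizer.hom_ext (by
          show π ≫ cokernel.map ι ι _ _ _ = π ≫ 𝟙 C
          rw [cokernel.π_desc, map_one, Category.comp_id]
          exact Category.id_comp _)
        map_mul' := fun r r' => coequalizer.hom_ext (by
          show π ≫ cokernel.map ι ι _ _ _ = π ≫ (cokernel.map ι ι _ _ _ ≫ cokernel.map ι ι _ _ _)
          rw [cokernel.π_desc, cokernel.π_desc_assoc, Category.assoc, cokernel.π_desc, map_mul, End.mul_def,
            Category.assoc])
        map_zero' := coequalizer.hom_ext (by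
          show π ≫ cokernel.map ι ι _ _ _ = π ≫ (0 : C ⟶ C)
          rw [cokernel.π_desc, map_zero, comp_zero]
          exact zero_comp)
        map_add' := fun r r' => coequalizer.hom_ext (by
          show π ≫ cokernel.map ι ι _ _ _ = π ≫ (cokernel.map ι ι _ _ _ + cokernel.map ι ι _ _ _)
          rw [Preadditive.comp_add, cokernel.π_desc, cokernel.π_desc, cokernel.π_desc, map_add]
          exact Preadditive.add_comp _ _ _ _ _ _) }
    have hcC : KLinDR.Commutes ρ ρC π := fun r => (cokernel.π_desc _ _ _).symm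
    have hC : ∀ j, IsZero ((HomologicalComplex.eval A (ComplexShape.up ℤ) j).obj S) → IsIso (π.f j) := fun j hj => by
      have hSj := hSC.map_of_exact (HomologicalComplex.eval A (ComplexShape.up ℤ) j)
      exact (hSj.isIso_g_iff).2 hj
    have hCz : ∀ j, (a + 1 ≤ j ∨ j < a) → IsZero (C.X j) := by
      intro j hj
      rcases hj with hj | hj
      · have hSj := hSC.map_of_exact (HomologicalComplex.eval A (ComplexShape.up ℤ) j)
        exact (hSj.isIso_f_iff).1 (show IsIso (ι.f j) from DCX42.isIso_σIncl_f K (a + 1) hj)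
      · haveI := hC j (DCX42.isZero_σX K (a + 1) (by omega))
        exact (CochainComplex.isZero_of_isStrictlyGE K a j hj).of_iso (asIso (π.f j)).symm
    haveI : C.IsStrictlyGE a := (CochainComplex.isStrictlyGE_iff _ _).2 fun j hj => hCz j (Or.inr hj)
    haveI hCLE : C.IsStrictlyLE (a + ((0 : ℕ) : ℤ)) :=
      (CochainComplex.isStrictlyLE_iff _ _).2 fun j hj => hCz j (Or.inl (by omega))
    have h1 : Module.Finite R (KLinDR.HTρ T S ρS i) :=
      finite_HTρ n (a + 1) S hS hS' ρS i fun p hp hp' => by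
        haveI : IsIso (ι.f p) := DCX42.isIso_σIncl_f K (a + 1) hp
        refine (h p (by omega) (by omega)).of_iso T (asIso (ι.f p)).symm fun r => ?_
        show (ρ r : K ⟶ K).f p ≫ inv (ι.f p) = inv (ι.f p) ≫ (ρS r : S ⟶ S).f p
        rw [IsIso.comp_inv_eq, Category.assoc, IsIso.eq_inv_comp]
        exact (HomologicalComplex.congr_hom (hcS r) p).symm
    have h2 : Module.Finite R (KLinDR.HTρ T C ρC i) :=
      finite_HTρ 0 a C inferInstance hCLE ρC i fun p hp hp' => by
        obtain rfl : p = a := by omega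
        haveI := hC p (DCX42.isZero_σX K (p + 1) (by omega))
        exact (h p le_rfl (by omega)).of_iso T (asIso (π.f p)) fun r => HomologicalComplex.congr_hom (hcC r) p
    let f₁ := KLinDR.HTρmap T ι hcS i
    let f₂ := KLinDR.HTρmap T π hcC i
    have hex : LinearMap.ker f₂ ≤ LinearMap.range f₁ := fun x hx => by
      have hx' : KLinDR.HTρ.toHT x ≫ (shiftFunctor _ i).map (Q.map π) = 0 := hx
      have hT := Triangle.shift_distinguished _ (triangleOfSES_distinguished hSC) i
      obtain ⟨z, hz⟩ := Triangle.coyoneda_exact₂ _ hT (KLinDR.HTρ.toHT x) (by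
        show KLinDR.HTρ.toHT x ≫ (i.negOnePow • (shiftFunctor _ i).map (Q.map π)) = 0
        rw [Linear.comp_units_smul, hx', smul_zero])
      refine ⟨KLinDR.HTρ.toHT.symm (i.negOnePow • z), ?_⟩
      show (i.negOnePow • z) ≫ (shiftFunctor _ i).map (Q.map ι) = KLinDR.HTρ.toHT x
      rw [hz]
      show _ = z ≫ (i.negOnePow • (shiftFunctor _ i).map (Q.map ι))
      rw [Linear.units_smul_comp, Linear.comp_units_smul]
    haveI := h1
    haveI := h2
    haveI : IsNoetherian R (KLinDR.HTρ T K ρ i) :=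
      isNoetherian_of_range_eq_ker f₁ f₂ (le_antisymm (by
        rintro _ ⟨y, rfl⟩
        show (KLinDR.HTρ.toHT y ≫ (shiftFunctor _ i).map (Q.map ι)) ≫ (shiftFunctor _ i).map (Q.map π) = 0
        rw [Category.assoc, ← Functor.map_comp, ← Q.map_comp, cokernel.condition, Functor.map_zero, Functor.map_zero,
          comp_zero]) hex)
    infer_instance

end Groth.Agent.DR3
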