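import Groth.Agent.DR3.FiniteHyper
import Groth.Agent.DR3.TopDegree
import Groth.Agent.Serre71.Finite
import Groth.Agent.QC70.ExtCoh

/-!
De Rham cohomology of a proper scheme over a Noetherian ring is finite.
-/

set_option autoImplicit false
set_option linter.style.haveILetI false
set_option backward.isDefEq.respectTransparency false
set_option backward.isDefEq.respectTransparency.types false
set_option linter.overlappingInstances false
universe u

open CategoryTheory CategoryTheory.Limits AlgebraicGeometry Opposite TopologicalSpace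

noncomputable section

namespace Groth.Agent.DR3

variable {A : Type u} [CommRing A] {X : Scheme.{u}} (f : X ⟶ Spec (CommRingCat.of A))

theorem subsingleton_exteriorPower_of_fin {R M : Type u} [CommRing R] [AddCommGroup M] [Module R M] {m : ℕ}
    (s : Fin m → M) (hs : Submodule.span R (Set.range s) = ⊤) {p : ℕ} (h : m < p) : Subsingleton (⋀[R]^p M) := by
  have hsurj : Function.Surjective (Fintype.linearCombination R s) := by
    rw [← LinearMap.range_eq_top, Fintype.range_linearCombination, hs]
  haveI := subsingleton_exteriorPower (Pi.basisFun R (Fin m)) h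
  exact (exteriorPower.map_surjective hsurj).subsingleton

variable [QuasiSeparated f] [LocallyOfFiniteType f] (D : DeRhamSh.OmegaCx f)

theorem finite_omega_sections (U : X.affineOpens) : Module.Finite Γ(X, U.1) Γ(Omega.sheaf f, U.1) := by
  let R := Γ(Spec (CommRingCat.of A), ⊤)
  letI := (f.appLE ⊤ U.1 le_top).hom.toAlgebra
  have hft : Algebra.FiniteType R Γ(X, U.1) := f.finiteType_appLE (isAffineOpen_top _) U.2 le_top
  obtain ⟨j⟩ := Var76.OmegaSmooth.exists_equiv f U.2 (isAffineOpen_top _) (le_top : U.1 ≤ f ⁻¹ᵁ ⊤)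
  exact Module.Finite.equiv j

theorem isCoh_term [IsLocallyNoetherian X] (p : ℕ) : Coh.IsCoh (D.term p) := by
  haveI := isQCoh_term f D p
  refine ⟨‹_›, QC70.isFiniteType_of_finite_sections _ (fun U : X.affineOpens => U.1)
    (iSup_affineOpens_eq_top X) (fun U => U.2) fun U => ?_⟩
  haveI := finite_omega_sections f U
  exact Module.Finite.equiv (D.loc p U).symm

theorem exists_isZero_term [CompactSpace X] : ∃ N : ℕ, ∀ p : ℕ, N < p → IsZero (Coh.toAb (D.term p)) := by
  have hgen : ∀ U : X.affineOpens, ∃ (m : ℕ) (s : Fin m → Γ(Omega.sheaf f, U.1)),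
      Submodule.span Γ(X, U.1) (Set.range s) = ⊤ := fun U =>
    haveI := finite_omega_sections f U
    Module.Finite.exists_fin
  choose m s hs using hgen
  obtain ⟨t, ht⟩ := isCompact_univ.elim_finite_subcover (fun U : X.affineOpens => (U.1 : Set X))
    (fun U => U.1.2) (fun x _ => by
      have hx : x ∈ (⊤ : X.Opens) := trivial
      rw [← iSup_affineOpens_eq_top X] at hx
      obtain ⟨U, hU⟩ := Opens.mem_iSup.1 hx
      exact Set.mem_iUnion.2 ⟨U, hU⟩)
  refine ⟨t.sup m, fun p hp => ?_⟩
  have hz : IsZero (D.term p) := (IsZero.iff_id_eq_zero _).2 <| Scheme.Modules.hom_ext _ _ fun O => by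
    ext z
    refine QC70.section_ext _ _ _ fun x hx => ?_
    obtain ⟨U, hU, hxU⟩ := Set.mem_iUnion₂.1 (ht (Set.mem_univ x))
    obtain ⟨g, hg, hxg⟩ := U.2.exists_basicOpen_le ⟨x, hx⟩ hxU
    refine ⟨X.basicOpen g, hg, hxg, ?_⟩
    haveI := isQCoh_term f D p
    haveI : Subsingleton Γ(D.term p, U.1) :=
      haveI := subsingleton_exteriorPower_of_fin (s U) (hs U) ((Finset.le_sup hU).trans_lt hp)
      (D.loc p U).toEquiv.subsingleton
    have hM : QC70.IsLocAt (D.term p) U.1 := QC70.isLocAt_of_isQuasicoherent (D.term p) U.2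
    haveI : Subsingleton Γ(D.term p, X.basicOpen g) := subsingleton_of_forall_eq 0 fun v => by
      obtain ⟨n, t, ht⟩ := hM.exists_of g v
      rw [Subsingleton.elim t 0, QC70.res_zero] at ht
      have hu : IsUnit (QC70.resO X (X.basicOpen_le g) g ^ n) := (RingedSpace.isUnit_res_basicOpen _ g).pow n
      exact hu.smul_eq_zero.1 ht.symm
    exact Subsingleton.elim _ _
  exact (SheafOfModules.toSheaf X.ringCatSheaf).map_isZero hz

theorem finite_hdR [IsNoetherianRing A] [IsProper f] (h : KLinDR.TermwiseLinear (Coh.toGlobal f) D.K D.term D.iso)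
    [HasDerivedCategory.{u} (Sheaf (Opens.grothendieckTopology X) AddCommGrpCat.{u})] (i : ℤ) :
    Module.Finite A (KLinDR.HdR (Coh.toGlobal f) D h i) := by
  letI : X.Over (Spec (CommRingCat.of A)) := ⟨f⟩
  haveI : IsProper (X ↘ Spec (CommRingCat.of A)) := ‹IsProper f›
  haveI : IsLocallyNoetherian X := LocallyOfFiniteType.isLocallyNoetherian f
  haveI : CompactSpace X := QuasiCompact.compactSpace_of_compactSpace f
  obtain ⟨N, hN⟩ := exists_isZero_term f D
  let eK : ∀ p : ℕ, D.KZ.X (p : ℤ) ≅ Coh.toAb (D.term p) := fun p =>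
    D.K.extendXIso ComplexShape.embeddingUpNat (ComplexShape.embeddingUpNat_f p) ≪≫ D.iso p
  have hGE : D.KZ.IsStrictlyGE 0 := (CochainComplex.isStrictlyGE_iff _ _).2 fun j hj =>
    D.K.isZero_extend_X ComplexShape.embeddingUpNat j fun p hp => by
      have : (p : ℤ) = j := hp
      omega
  have hLE : D.KZ.IsStrictlyLE (0 + (N : ℤ)) := (CochainComplex.isStrictlyLE_iff _ _).2 fun j hj => by
    obtain ⟨p, rfl⟩ := Int.eq_ofNat_of_zero_le (show 0 ≤ j by omega)
    exact (hN p (by omega)).of_iso (eK p)
  refine finite_HTρ _ N 0 D.KZ hGE hLE (KLinDR.scalar h) i fun j hj _ => ?_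
  obtain ⟨p, rfl⟩ := Int.eq_ofNat_of_zero_le hj
  have h1 : FinExt (CohCx.freeSheaf (Opens.grothendieckTopology X) (⊤ : X.Opens)) (Coh.toAb (D.term p))
      fun a => Coh.smulAb (D.term p) (Coh.toGlobal f a) := fun q =>
    ⟨Coh.HH X (D.term p) q, inferInstance, Coh.moduleOver A X (D.term p) q,
      Serre71.finite_hh_of_isProper A (D.term p) (isCoh_term f D p) q,
      (Coh69.hTerminalEquiv isTerminalTop (Coh.toAb (D.term p)) q).toAddMonoidHom,
      (Coh69.hTerminalEquiv isTerminalTop (Coh.toAb (D.term p)) q).surjective,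
      fun a x => Coh69.hTerminalEquiv_map isTerminalTop (Coh.smulAb (D.term p) (Coh.toGlobal f a)) q x⟩
  refine h1.of_iso _ (eK p).symm fun a => ?_
  rw [KLinDR.scalar_f]
  simp [eK, KLinDR.scalarEnd]

end Groth.Agent.DR3
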