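import Groth.Agent.CTot49.Main
import Groth.Agent.Rlim44.RestrHDU

/-!
Hypercohomology of a complex of acyclic sheaves as the cohomology of the complex of sections.
-/

set_option autoImplicit false
set_option backward.isDefEq.respectTransparency false
universe u

open CategoryTheory CategoryTheory.Limits Opposite TopologicalSpace Groth.Agent.TopCoh49

noncomputable section

namespace Groth.Agent.DR3

variable {X : TopCat.{u}} [HasDerivedCategory.{u} (CohTop.Ab X)]

/-- Classes of cocycles of sections. -/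
theorem exists_classHom (K : CochainComplex (CohTop.Ab X) ℤ) (a : ℤ)
    (ha : ∀ i : ℤ, i < a → IsZero (K.X i)) (V : Opens X)
    (h : ∀ (i : ℤ) (q : ℕ), Subsingleton (E (K.X i) (q + 1) V)) (n : ℤ) :
    ∃ Φ : ((K.d n (n + 1)).hom.app (op V)).hom.ker →+ CohCx.HDU (DerivedCategory.Q.obj K) n V,
      Function.Surjective Φ ∧
      ∀ s, Φ s = 0 ↔ ∃ b, ((K.d (n - 1) n).hom.app (op V)).hom b = s.1 := by
  haveI : K.IsStrictlyGE a := (CochainComplex.isStrictlyGE_iff K a).2 ha
  obtain ⟨I, _, _, t, hI, ht⟩ := Groth.Agent.Desc45.exists_res K a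
  haveI := ht
  haveI : PreservesFiniteLimits (CTot49.secV V) := comp_preservesFiniteLimits _ _
  let φ := ((CTot49.secV V).mapHomologicalComplex (ComplexShape.up ℤ)).map t
  haveI : QuasiIso φ := Groth.Agent.Desc45.AcyclicClass.quasiIso_map (CTot49.acClass V) t a
    (fun i q => h i q) hI
  let i₄ := (shiftFunctor (DerivedCategory (CohTop.Ab X)) n).mapIso (asIso (DerivedCategory.Q.map t))
  let e : CohCx.HDU (DerivedCategory.Q.obj K) n V ≃+ CohCx.HDU (DerivedCategory.Q.obj I) n V :=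
    AddEquiv.mk' i₄.homToEquiv (fun x y => Preadditive.add_comp _ _ _ x y i₄.hom)
  have hnat : ∀ i j (x : (K.X i).obj.obj (op V)),
      ((I.d i j).hom.app (op V)).hom (((t.f i).hom.app (op V)).hom x) =
        ((t.f j).hom.app (op V)).hom (((K.d i j).hom.app (op V)).hom x) := fun i j x =>
    ConcreteCategory.congr_hom (φ.comm i j) x
  let j : ((K.d n (n + 1)).hom.app (op V)).hom.ker →+ ((I.d n (n + 1)).hom.app (op V)).hom.ker :=
    AddMonoidHom.mk' (fun s => ⟨((t.f n).hom.app (op V)).hom s.1,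
        ((hnat n (n + 1) s.1).trans ((congrArg _ s.2).trans (map_zero _)) : _)⟩)
      fun s s' => Subtype.ext (map_add _ _ _)
  refine ⟨e.symm.toAddMonoidHom.comp ((CTot49.clsU I n V).comp j), fun x => ?_, fun s => ?_⟩
  · obtain ⟨⟨z, hz⟩, hx⟩ := CTot49.clsU_surjective I n V (e x)
    obtain ⟨c, b, hc, hzc⟩ := CTot49.qiso_surj φ (i := n - 1) (j := n) (k := n + 1) (by omega) rfl z hz
    refine ⟨⟨c, hc⟩, ?_⟩
    show e.symm (CTot49.clsU I n V (j ⟨c, hc⟩)) = x
    rw [AddEquiv.symm_apply_eq, ← hx]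
    refine sub_eq_zero.1 ?_
    rw [← map_sub]
    let w := j ⟨c, hc⟩ - ⟨z, hz⟩
    show CTot49.clsU I n V w = 0
    refine (Rlim44.scls_eq_zero_iff I w.1 w.2).2 ⟨-b, ?_⟩
    show ((I.d (n - 1) n).hom.app (op V)).hom (-b) = ((t.f n).hom.app (op V)).hom c - z
    rw [map_neg, hzc]
    exact (sub_add_cancel_left _ _).symm
  · show e.symm (CTot49.clsU I n V (j s)) = 0 ↔ _
    rw [AddEquiv.map_eq_zero_iff]
    refine (Rlim44.scls_eq_zero_iff I (j s).1 (j s).2).trans ⟨?_, ?_⟩
    · rintro ⟨b, hb⟩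
      exact CTot49.qiso_inj φ (i := n - 1) (j := n) (k := n + 1) (by omega) rfl s.1 b s.2 hb.symm
    · rintro ⟨b, hb⟩
      exact ⟨((t.f (n - 1)).hom.app (op V)).hom b, (hnat (n - 1) n b).trans (congrArg _ hb)⟩

end Groth.Agent.DR3
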